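/-
The topology generated by two precoverages `P`, `P'` as in the comparison of Zariski and fpqc:
covering sieves are the ones refined by composites `P' ∘ P`.
-/
import Mathlib.CategoryTheory.Sites.PrecoverageToGrothendieck

universe v₁ u₁ w

open CategoryTheory Limits Opposite

namespace Groth.Agent.PrecovJoin

variable {C : Type u₁} [Category.{v₁} C] (C' : C → Prop) (P P' : Precoverage C)

/-- The composite covering condition. -/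
def Cov (X : C) (S : Sieve X) : Prop :=
  ∃ R ∈ P X, (∀ ⦃Y : C⦄ ⦃f : Y ⟶ X⦄, R f → C' Y) ∧
    ∀ ⦃Y : C⦄ ⦃f : Y ⟶ X⦄, R f → ∃ R' ∈ P' Y, ∀ ⦃Z : C⦄ ⦃g : Z ⟶ Y⦄, R' g → S (g ≫ f)

variable {C' P P'}

theorem Cov.mem {X : C} {S : Sieve X} (h : Cov C' P P' X S) : S ∈ (P ⊔ P').toGrothendieck X := by
  obtain ⟨R, hR, -, h'⟩ := h
  refine (P ⊔ P').toGrothendieck.transitive
    (Precoverage.generate_mem_toGrothendieck (J := P ⊔ P') (Or.inl hR)) S ?_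
  rintro W q ⟨Y, a, f, hf, rfl⟩
  obtain ⟨R', hR', hle⟩ := h' hf
  rw [Sieve.pullback_comp]
  apply GrothendieckTopology.pullback_stable
  refine GrothendieckTopology.superset_covering _ ?_
    (Precoverage.generate_mem_toGrothendieck (J := P ⊔ P') (Or.inr hR'))
  rw [Sieve.generate_le_iff]
  exact fun Z g hg => hle hg

theorem exists_bind [P.IsStableUnderComposition] {X : C} {R : Presieve X} (hR : R ∈ P X)
    (h : ∀ ⦃Y : C⦄ ⦃f : Y ⟶ X⦄, R f → ∃ R₂ ∈ P Y, ∀ ⦃Z : C⦄ ⦃g : Z ⟶ Y⦄, R₂ g → C' Z) :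
    ∃ T ∈ P X, ∀ ⦃W : C⦄ ⦃q : W ⟶ X⦄, T q →
      C' W ∧ ∃ (Y : C) (f : Y ⟶ X) (g : W ⟶ Y), R f ∧ g ≫ f = q := by
  rw [Precoverage.mem_iff_exists_zeroHypercover] at hR
  obtain ⟨E, rfl⟩ := hR
  have h' : ∀ i : E.I₀, ∃ F : P.ZeroHypercover (E.X i), ∀ j, C' (F.X j) := by
    intro i
    obtain ⟨R₂, hR₂, hC⟩ := h (⟨i⟩ : E.presieve₀ (E.f i))
    rw [Precoverage.mem_iff_exists_zeroHypercover] at hR₂
    obtain ⟨F, rfl⟩ := hR₂
    exact ⟨F, fun j => hC (⟨j⟩ : F.presieve₀ (F.f j))⟩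
  choose F hF using h'
  refine ⟨(E.bind F).presieve₀, (E.bind F).mem₀, ?_⟩
  rintro W q ⟨⟨i, j⟩⟩
  exact ⟨hF i j, _, E.f i, (F i).f j, ⟨i⟩, rfl⟩

variable [P.HasPullbacks] [P.IsStableUnderBaseChange] [P.IsStableUnderComposition]
variable
    (hP'C : ∀ ⦃X : C⦄ ⦃R : Presieve X⦄, R ∈ P' X → C' X ∧ ∀ ⦃Y : C⦄ ⦃f : Y ⟶ X⦄, R f → C' Y)
    (hP'id : ∀ ⦃X : C⦄, C' X → Presieve.singleton (𝟙 X) ∈ P' X)
    (ha : ∀ ⦃X : C⦄ ⦃R : Presieve X⦄, R ∈ P' X → ∀ ⦃T : C⦄ (g : T ⟶ X), C' T →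
      ∃ _ : R.HasPullbacks g, Presieve.pullbackArrows g R ∈ P' T)
    (hb : ∀ X : C, ∃ R ∈ P X, ∀ ⦃Y : C⦄ ⦃f : Y ⟶ X⦄, R f → C' Y)
    (hc : ∀ ⦃S : C⦄ ⦃R₁ : Presieve S⦄, R₁ ∈ P' S →
      ∀ (R₂ : ∀ ⦃Y : C⦄ ⦃f : Y ⟶ S⦄, R₁ f → Presieve Y),
        (∀ ⦃Y : C⦄ ⦃f : Y ⟶ S⦄ (hf : R₁ f), R₂ hf ∈ P Y ∧ ∀ ⦃Z : C⦄ ⦃g : Z ⟶ Y⦄, R₂ hf g → C' Z) →
      ∀ (R₃ : ∀ ⦃Y : C⦄ ⦃f : Y ⟶ S⦄ (hf : R₁ f) ⦃Z : C⦄ ⦃g : Z ⟶ Y⦄, R₂ hf g → Presieve Z),
        (∀ ⦃Y : C⦄ ⦃f : Y ⟶ S⦄ (hf : R₁ f) ⦃Z : C⦄ ⦃g : Z ⟶ Y⦄ (hg : R₂ hf g), R₃ hf hg ∈ P' Z) →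
      ∃ T ∈ P' S, ∀ ⦃W : C⦄ ⦃q : W ⟶ S⦄, T q →
        ∃ (Y Z V : C) (f : Y ⟶ S) (hf : R₁ f) (g : Z ⟶ Y) (hg : R₂ hf g) (h : V ⟶ Z) (_ : R₃ hf hg h)
          (r : W ⟶ V), r ≫ h ≫ g ≫ f = q)

include hP'C hP'id ha hb hc

theorem cov_of_mem {X : C} {S : Sieve X} (hS : S ∈ (P ⊔ P').toGrothendieck X) :
    Cov C' P P' X S := by
  rw [Precoverage.mem_toGrothendieck_iff] at hS
  induction hS with
  | of X R hR =>
    rcases hR with hR | hR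
    · obtain ⟨T, hT, hT'⟩ := exists_bind hR (fun Y f _ => hb Y)
      refine ⟨T, hT, fun W q hq => (hT' hq).1, fun W q hq => ?_⟩
      obtain ⟨hW, Y₁, f₁, g₁, hf, rfl⟩ := hT' hq
      refine ⟨_, hP'id hW, ?_⟩
      intro Z g' hg'
      obtain ⟨⟩ := hg'
      exact ⟨_, g₁, f₁, hf, by simp⟩
    · obtain ⟨R₀, hR₀, hC⟩ := hb X
      refine ⟨R₀, hR₀, hC, fun Y f hf => ?_⟩
      obtain ⟨_, hmem⟩ := ha hR f (hC hf)
      refine ⟨_, hmem, ?_⟩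
      rintro Z g ⟨W, u, hu⟩
      haveI := Presieve.hasPullback f hu
      exact ⟨W, pullback.fst u f, u, hu, pullback.condition⟩
  | top X =>
    obtain ⟨R₀, hR₀, hC⟩ := hb X
    exact ⟨R₀, hR₀, hC, fun Y f hf => ⟨_, hP'id (hC hf), fun _ _ _ => trivial⟩⟩
  | pullback X S _ Y f ih =>
    obtain ⟨R, hR, hC, h'⟩ := ih
    haveI : R.HasPullbacks f := P.hasPullbacks_of_mem f hR
    obtain ⟨T, hT, hT'⟩ := exists_bind (Precoverage.pullbackArrows_mem f hR) (fun Y f _ => hb Y)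
    refine ⟨T, hT, fun W q hq => (hT' hq).1, fun W q hq => ?_⟩
    obtain ⟨hW, _, _, g, hf, rfl⟩ := hT' hq
    cases hf with
    | mk Z u hu =>
      haveI := Presieve.hasPullback f hu
      obtain ⟨R', hR', hle⟩ := h' hu
      obtain ⟨_, hmem⟩ := ha hR' (g ≫ pullback.fst u f) hW
      refine ⟨_, hmem, ?_⟩
      rintro V _ ⟨V', t, ht⟩
      haveI := Presieve.hasPullback (g ≫ pullback.fst u f) ht
      show S _
      have e : (pullback.snd t (g ≫ pullback.fst u f) ≫ g ≫ pullback.snd u f) ≫ f =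
          pullback.fst t (g ≫ pullback.fst u f) ≫ t ≫ u := by
        rw [Category.assoc, Category.assoc, ← pullback.condition, ← Category.assoc g,
          ← Category.assoc, ← pullback.condition, Category.assoc]
      rw [e]
      exact S.downward_closed (hle ht) _
  | transitive X S B _ _ ih ih' =>
    obtain ⟨R, hR, hC, h'⟩ := ih
    refine ⟨R, hR, hC, fun Y f hf => ?_⟩
    obtain ⟨R', hR', hle⟩ := h' hf
    choose R₂ hR₂ hC₂ h₂ using fun ⦃Z : C⦄ ⦃g : Z ⟶ Y⦄ (hg : R' g) => ih' (hle hg)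
    choose R₃ hR₃ h₃ using h₂
    obtain ⟨T, hT, hT'⟩ := hc hR' R₂ (fun Z g hg => ⟨hR₂ hg, hC₂ hg⟩) R₃
      (fun Z g hg V k hk => hR₃ hg hk)
    refine ⟨T, hT, fun W q hq => ?_⟩
    obtain ⟨_, _, _, g, hg, k, hk, m, hm, r, rfl⟩ := hT' hq
    have := B.downward_closed (h₃ hg hk hm) r
    simpa using this

/-- Covering sieves of the generated topology. -/
theorem mem_iff {X : C} {S : Sieve X} :
    S ∈ (P ⊔ P').toGrothendieck X ↔ Cov C' P P' X S :=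
  ⟨cov_of_mem hP'C hP'id ha hb hc, Cov.mem⟩

theorem isSheaf_iff (F : Cᵒᵖ ⥤ Type w) :
    Presieve.IsSheaf (P ⊔ P').toGrothendieck F ↔
      (∀ ⦃X : C⦄ ⦃R : Presieve X⦄, R ∈ P X → Presieve.IsSheafFor F R) ∧
      (∀ ⦃X : C⦄ ⦃R : Presieve X⦄, R ∈ P' X → Presieve.IsSheafFor F R) := by
  refine ⟨fun h => ⟨fun X R hR => h.isSheafFor_of_mem_precoverage (Or.inl hR),
    fun X R hR => h.isSheafFor_of_mem_precoverage (Or.inr hR)⟩, fun ⟨hP, hP'⟩ => ?_⟩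
  have sep : ∀ ⦃X : C⦄ (S : Sieve X), S ∈ (P ⊔ P').toGrothendieck X → ∀ t₁ t₂ : F.obj (op X),
      (∀ ⦃Y : C⦄ (g : Y ⟶ X), S g → F.map g.op t₁ = F.map g.op t₂) → t₁ = t₂ := by
    intro X S hS t₁ t₂ h
    obtain ⟨R, hR, -, h'⟩ := cov_of_mem hP'C hP'id ha hb hc hS
    refine (hP hR).isSeparatedFor.ext (fun Y f hf => ?_)
    obtain ⟨R', hR', hle⟩ := h' hf
    refine (hP' hR').isSeparatedFor.ext (fun Z g hg => ?_)
    have := h (g ≫ f) (hle hg)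
    simpa using this
  intro X S hS
  obtain ⟨R, hR, -, h'⟩ := cov_of_mem hP'C hP'id ha hb hc hS
  choose R' hR' hle using h'
  intro x hx
  -- the amalgamation on each member of `R`
  have hz : ∀ ⦃Y : C⦄ ⦃f : Y ⟶ X⦄ (_ : R f), ∃ z : F.obj (op Y),
      ∀ ⦃V : C⦄ (v : V ⟶ Y) (hv : S (v ≫ f)), F.map v.op z = x (v ≫ f) hv := by
    intro Y f hf
    let y : (R' hf).FamilyOfElements F := fun Z g hg => x (g ≫ f) (hle hf hg)
    have hy : y.Compatible := fun Y₁ Y₂ Z g₁ g₂ f₁ f₂ h₁ h₂ e =>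
      hx g₁ g₂ _ _ (by rw [reassoc_of% e])
    obtain ⟨z, hz, -⟩ := hP' (hR' hf) y hy
    refine ⟨z, fun V v hv => ?_⟩
    refine sep _ ((P ⊔ P').toGrothendieck.pullback_stable v
      (Precoverage.generate_mem_toGrothendieck (J := P ⊔ P') (Or.inr (hR' hf)))) _ _ ?_
    rintro W m ⟨Z, a, g, hg, e⟩
    have h1 : F.map m.op (F.map v.op z) = F.map a.op (x (g ≫ f) (hle hf hg)) := by
      rw [← show F.map g.op z = x (g ≫ f) (hle hf hg) from hz g hg]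
      rw [← Functor.map_comp_apply, ← Functor.map_comp_apply, ← op_comp, ← op_comp, e]
    rw [h1]
    exact hx a m _ _ (by rw [reassoc_of% e])
  choose z hz using hz
  have hzc : Presieve.FamilyOfElements.Compatible (P := F) (R := R) (fun Y f hf => z hf) := by
    intro Y₁ Y₂ W h₁ h₂ f₁ f₂ hf₁ hf₂ e
    refine sep _ ((P ⊔ P').toGrothendieck.pullback_stable (h₁ ≫ f₁) hS) _ _ ?_
    intro V v hv
    rw [← Functor.map_comp_apply, ← Functor.map_comp_apply, ← op_comp, ← op_comp,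
      hz hf₁ (v ≫ h₁) (by simpa using hv), hz hf₂ (v ≫ h₂) (by simpa [← e] using hv)]
    congr 1
    simp [e]
  obtain ⟨t, ht, -⟩ := hP hR (fun Y f hf => z hf) hzc
  have key : x.IsAmalgamation t := by
    intro V g hg
    refine sep _ ((P ⊔ P').toGrothendieck.pullback_stable g
      (Precoverage.generate_mem_toGrothendieck (J := P ⊔ P') (Or.inl hR))) _ _ ?_
    rintro W m ⟨Y, a, f, hf, e⟩
    have h1 : F.map m.op (F.map g.op t) = F.map a.op (z hf) := by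
      rw [← show F.map f.op t = z hf from ht f hf]
      rw [← Functor.map_comp_apply, ← Functor.map_comp_apply, ← op_comp, ← op_comp, e]
    have hmem : S (a ≫ f) := by rw [e]; exact S.downward_closed hg m
    rw [h1, hz hf a hmem]
    have := hx (𝟙 W) m hmem hg (by rw [Category.id_comp, e])
    simpa using this
  exact ⟨t, key, fun t' ht' => sep S hS _ _ (fun Y g hg => (ht' g hg).trans (key g hg).symm)⟩

end Groth.Agent.PrecovJoin
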